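import Groth.Agent.GrothSS.CechSS
import Groth.Agent.W7TotAcyc.Modules
import Groth.Agent.DerExt.Coyoneda

/-!
`Ext` out of the free presheaf on the sieve generated by a family is Čech cohomology.
-/

set_option autoImplicit false
set_option linter.style.haveILetI false
set_option backward.isDefEq.respectTransparency false
set_option backward.isDefEq.respectTransparency.types false
set_option maxHeartbeats 1000000

universe u

open CategoryTheory Category Limits Opposite Abelian

namespace Groth.Agent.W7CechSieve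

open Groth.Agent.SiteCoh

variable {C : Type u} [SmallCategory C] [HasPullbacks C] {X : C} {ι : Type u} (Y : ι → Over X)

/-- the sieve generated by the family -/
abbrev S : Sieve X := Sieve.ofArrows (fun i => (Y i).left) (fun i => (Y i).hom)

/-- the sieve as a sheaf of sets for the trivial topology -/
abbrev K : Sheaf (⊥ : GrothendieckTopology C) (Type u) :=
  ⟨(S Y).functor, Presheaf.isSheaf_bot _⟩

/-- the free sheaf on the sieve -/
noncomputable abbrev FK : Sheaf (⊥ : GrothendieckTopology C) AddCommGrpCat.{u} :=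
  (presheafToSheaf (⊥ : GrothendieckTopology C) AddCommGrpCat.{u}).obj
    ((K Y).obj ⋙ AddCommGrpCat.free.{u})

variable (F : Sheaf (⊥ : GrothendieckTopology C) AddCommGrpCat.{u})

/-- evaluation of a map out of the free sheaf on the sieve -/
noncomputable def ev (φ : FK Y ⟶ F) {V : C} (f : V ⟶ X) (hf : (S Y).arrows f) : F.obj.obj (op V) :=
  (freeHom _ (K Y).obj F φ).app (op V) ⟨f, hf⟩

lemma map_ev (φ : FK Y ⟶ F) {V W : C} (g : W ⟶ V) (f : V ⟶ X) (hf : (S Y).arrows f) :
    F.obj.map g.op (ev Y F φ f hf) = ev Y F φ (g ≫ f) ((S Y).downward_closed hf g) :=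
  (NatTrans.naturality_apply (freeHom _ (K Y).obj F φ) g.op (⟨f, hf⟩ : (K Y).obj.obj (op V))).symm

lemma ev_congr (φ : FK Y ⟶ F) {V : C} {f f' : V ⟶ X} (h : f = f') (hf : (S Y).arrows f)
    (hf' : (S Y).arrows f') : ev Y F φ f hf = ev Y F φ f' hf' := by
  subst h; rfl

lemma mem_tupleProd {n : ℕ} (a : Fin (n + 1) → ι) : (S Y).arrows (tupleProd Y a).hom := by
  rw [← Over.w (Pi.π (Y ∘ a) 0)]
  exact (S Y).downward_closed
    (Sieve.ofArrows_mk (fun i => (Y i).left) (fun i => (Y i).hom) (a 0)) _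

/-- the zero cochain of a map out of the free sheaf -/
noncomputable def gam : (FK Y ⟶ F) →+ Cochain Y (res' (Over.forget X) F) 0 :=
  AddMonoidHom.mk' (fun φ a => ev Y F φ (tupleProd Y a).hom (mem_tupleProd Y a)) fun φ ψ =>
    funext fun _ => W7TotAcyc.freeHom_add (K Y).obj F φ ψ _ _

lemma cd_gam (φ : FK Y ⟶ F) : cd Y (res' (Over.forget X) F) (gam Y F φ) = 0 := by
  funext a
  rw [cd_one_apply, Pi.zero_apply, sub_eq_zero]
  refine (map_ev Y F φ (tupleDrop Y a 0).left _ _).trans ?_
  refine Eq.trans ?_ (map_ev Y F φ (tupleDrop Y a 1).left _ _).symm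
  exact ev_congr Y F φ ((Over.w (tupleDrop Y a 0)).trans (Over.w (tupleDrop Y a 1)).symm) _ _

lemma gam_injective : Function.Injective (gam Y F) := by
  intro φ ψ h
  apply (freeHom _ (K Y).obj F).injective
  refine NatTrans.ext (funext fun V => ConcreteCategory.hom_ext _ _ ?_)
  obtain ⟨V⟩ := V
  rintro ⟨f, hf⟩
  change ev Y F φ f hf = ev Y F ψ f hf
  obtain ⟨W, l, k, hk, rfl⟩ := id hf
  cases hk with | mk i => ?_
  let d : Over X := Over.mk (l ≫ (Y i).hom)
  let m : d ⟶ tupleProd Y (n := 0) (fun _ => i) := Pi.lift fun _ => Over.homMk (U := d) l rfl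
  have e : m.left ≫ (tupleProd Y (n := 0) (fun _ => i)).hom = l ≫ (Y i).hom := Over.w m
  rw [ev_congr Y F φ e.symm hf ((S Y).downward_closed (mem_tupleProd Y _) _),
    ev_congr Y F ψ e.symm hf ((S Y).downward_closed (mem_tupleProd Y _) _),
    ← map_ev Y F φ m.left _ (mem_tupleProd Y _), ← map_ev Y F ψ m.left _ (mem_tupleProd Y _)]
  exact congrArg (F.obj.map m.left.op) (congrFun h fun _ => i)

lemma val0_agree (x : Cochain Y (res' (Over.forget X) F) 0)
    (hx : cd Y (res' (Over.forget X) F) x = 0) {d : Over X} (i j : ι) (f : d ⟶ Y i) (g : d ⟶ Y j) :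
    val0 F x i f = val0 F x j g := by
  let b : Fin 2 → ι := ![i, j]
  let m : d ⟶ tupleProd Y b := Pi.lift (Fin.cases (motive := fun k => d ⟶ Y (b k)) f
    (Fin.cases (motive := fun k => d ⟶ Y (b k.succ)) g (fun k => k.elim0)))
  have h0 := congr_arg ((res' (Over.forget X) F).map m.op) (congr_fun hx b)
  rw [cd_one_apply, map_sub, Pi.zero_apply, map_zero, sub_eq_zero, ← ConcreteCategory.comp_apply,
    ← ConcreteCategory.comp_apply, ← Functor.map_comp, ← Functor.map_comp, ← op_comp, ← op_comp] at h0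
  rw [map_eq_val0 F x (b ∘ (0 : Fin 2).succAbove) j (by simp [b]) _ g ?_,
    map_eq_val0 F x (b ∘ (1 : Fin 2).succAbove) i (by simp [b]) _ f ?_] at h0
  · exact h0.symm
  · rw [Category.assoc, ← Category.assoc (tupleDrop _ _ _), Pi.lift_π]
    simp only [m, Pi.lift_π_assoc]
    exact Category.comp_id _
  · rw [Category.assoc, ← Category.assoc (tupleDrop _ _ _), Pi.lift_π]
    simp only [m, Pi.lift_π_assoc]
    exact Category.comp_id _

lemma val0_agree' (x : Cochain Y (res' (Over.forget X) F) 0)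
    (hx : cd Y (res' (Over.forget X) F) x = 0) {V : C} (f : V ⟶ X) (i j : ι)
    (g : Over.mk f ⟶ Y i) (g' : Over.mk f ⟶ Y j) :
    val0 F x i g = val0 F x j g' :=
  val0_agree Y F x hx i j g g'

lemma exists_factor {V : C} (f : V ⟶ X) (hf : (S Y).arrows f) :
    ∃ i, Nonempty (Over.mk f ⟶ Y i) := by
  obtain ⟨W, l, k, hk, rfl⟩ := hf
  cases hk with | mk i => ?_
  exact ⟨i, ⟨Over.homMk (U := Over.mk (l ≫ (Y i).hom)) l rfl⟩⟩

/-- the family glued from a cocycle -/
noncomputable def glue (x : Cochain Y (res' (Over.forget X) F) 0) {V : C} (f : V ⟶ X)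
    (hf : (S Y).arrows f) : F.obj.obj (op V) :=
  val0 F x (exists_factor Y f hf).choose (exists_factor Y f hf).choose_spec.some

lemma glue_eq (x : Cochain Y (res' (Over.forget X) F) 0)
    (hx : cd Y (res' (Over.forget X) F) x = 0) {V : C} (f : V ⟶ X) (hf : (S Y).arrows f) (i : ι)
    (g : Over.mk f ⟶ Y i) : glue Y F x f hf = val0 F x i g :=
  val0_agree' Y F x hx f _ i _ g

lemma map_val0 (x : Cochain Y (res' (Over.forget X) F) 0) (i : ι) {d d' : Over X} (k : d' ⟶ d)
    (g : d ⟶ Y i) :
    F.obj.map k.left.op (val0 F x i g) = val0 F x i (k ≫ g) := by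
  change ((res' (Over.forget X) F).map k.op) ((res' (Over.forget X) F).map _ (x _)) =
    (res' (Over.forget X) F).map _ (x _)
  rw [← ConcreteCategory.comp_apply, ← Functor.map_comp, ← op_comp]
  refine congr_arg (fun q => (res' (Over.forget X) F).map (Quiver.Hom.op q) (x _)) ?_
  exact Pi.hom_ext _ _ fun _ => by simp

lemma gam_surjective (x : Cochain Y (res' (Over.forget X) F) 0)
    (hx : cd Y (res' (Over.forget X) F) x = 0) : ∃ φ, gam Y F φ = x := by
  let τ : (K Y).obj ⟶ F.obj ⋙ forget AddCommGrpCat.{u} :=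
    { app := fun V => ↾(fun s => glue Y F x s.val s.property)
      naturality := fun V W g => ConcreteCategory.hom_ext _ _ fun s => by
        obtain ⟨f, hf⟩ := s
        obtain ⟨i, ⟨q⟩⟩ := exists_factor Y f hf
        change glue Y F x (g.unop ≫ f) ((S Y).downward_closed hf g.unop) =
          F.obj.map g.unop.op (glue Y F x f hf)
        rw [glue_eq Y F x hx f hf i q]
        let k : Over.mk (g.unop ≫ f) ⟶ Over.mk f := Over.homMk g.unop rfl
        exact (glue_eq Y F x hx _ _ i (k ≫ q)).trans (map_val0 Y F x i k q).symm }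
  refine ⟨(freeHom _ (K Y).obj F).symm τ, funext fun a => ?_⟩
  change (freeHom _ (K Y).obj F ((freeHom _ (K Y).obj F).symm τ)).app _ ⟨_, _⟩ = x a
  rw [Equiv.apply_symm_apply]
  change glue Y F x (tupleProd Y a).hom (mem_tupleProd Y a) = x a
  refine (glue_eq Y F x hx (tupleProd Y a).hom (mem_tupleProd Y a) (a 0)
    (Over.homMk (U := Over.mk (tupleProd Y a).hom) (Pi.π (Y ∘ a) 0).left (Over.w _))).trans ?_
  refine Eq.trans ?_ ((map_eq_val0 F x a (a 0) rfl (𝟙 _) (Pi.π (Y ∘ a) 0) (by simp)).symm.trans (by simp))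
  rfl

/-- the zero cocycle of a map out of the free sheaf -/
noncomputable def gamHom : AddCommGrpCat.of (FK Y ⟶ F) ⟶ (cechCx Y (res' (Over.forget X) F)).X 0 :=
  AddCommGrpCat.ofHom (((cochainEquiv Y (res' (Over.forget X) F) 0).symm.toAddMonoidHom).comp (gam Y F))

lemma gamHom_d : gamHom Y F ≫ (cechCx Y (res' (Over.forget X) F)).d 0 1 = 0 := by
  ext φ
  exact (d_eq_zero_iff Y _ 0 _).mpr
    ((congrArg (cd Y _) (AddEquiv.apply_symm_apply _ _)).trans (cd_gam Y F φ))

/-- the comparison in degree zero -/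
noncomputable def gamH : AddCommGrpCat.of (FK Y ⟶ F) ⟶ (cechCx Y (res' (Over.forget X) F)).homology 0 :=
  (cechCx Y (res' (Over.forget X) F)).liftCycles (gamHom Y F) 1 (by simp) (gamHom_d Y F) ≫
    (cechCx Y (res' (Over.forget X) F)).homologyπ 0

lemma gamH_bijective : Function.Bijective (gamH Y F) := by
  let L := cechCx Y (res' (Over.forget X) F)
  have : IsIso (L.homologyπ 0) := L.isIso_homologyπ _ 0 rfl (L.shape _ _ (by simp))
  have hl : Function.Bijective (L.liftCycles (gamHom Y F) 1 (by simp) (gamHom_d Y F)) := by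
    have hi : ∀ s, L.iCycles 0 (L.liftCycles (gamHom Y F) 1 (by simp) (gamHom_d Y F) s) = gamHom Y F s :=
      fun s => ConcreteCategory.congr_hom (L.liftCycles_i (gamHom Y F) 1 (by simp) (gamHom_d Y F)) s
    refine ⟨fun s t h => gam_injective Y F ((cochainEquiv Y _ 0).symm.injective ?_), fun z => ?_⟩
    · exact (hi s).symm.trans ((congr_arg (L.iCycles 0) h).trans (hi t))
    · obtain ⟨s, hs⟩ := gam_surjective Y F (cochainEquiv Y _ 0 (L.iCycles 0 z))
        ((d_eq_zero_iff Y _ 0 _).mp (ConcreteCategory.congr_hom (L.iCycles_d 0 1) z))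
      refine ⟨s, (AddCommGrpCat.mono_iff_injective (L.iCycles 0)).mp inferInstance ((hi s).trans ?_)⟩
      exact (cochainEquiv Y _ 0).symm_apply_eq.mpr hs
  exact ((ConcreteCategory.isIso_iff_bijective (L.homologyπ 0)).mp inferInstance).comp hl

variable {F} in
lemma gam_comp {G : Sheaf (⊥ : GrothendieckTopology C) AddCommGrpCat.{u}} (f : F ⟶ G) (φ : FK Y ⟶ F) :
    gam Y G (φ ≫ f) = cmap (resMap' (Over.forget X) f) (gam Y F φ) := by
  funext a
  change (freeHom _ (K Y).obj G (φ ≫ f)).app _ ⟨_, _⟩ = f.hom.app _ ((freeHom _ (K Y).obj F φ).app _ ⟨_, _⟩)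
  rw [freeHom_comp]
  rfl

/-- the Čech complex as a functor of a sheaf for the trivial topology -/
noncomputable abbrev cx : Sheaf (⊥ : GrothendieckTopology C) AddCommGrpCat.{u} ⥤
    CochainComplex AddCommGrpCat.{u} ℕ :=
  sheafToPresheaf _ _ ⋙ GrothSS.cechFun Y

/-- `Hom` out of the free sheaf on the sieve is `H⁰` of the Čech complex -/
noncomputable def gamIso : preadditiveCoyoneda.obj (op (FK Y)) ≅
    cx Y ⋙ HomologicalComplex.homologyFunctor AddCommGrpCat.{u} (ComplexShape.up ℕ) 0 :=
  NatIso.ofComponents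
    (fun F => @asIso _ _ _ _ (gamH Y F)
      ((ConcreteCategory.isIso_iff_bijective _).mpr (gamH_bijective Y F)))
    (fun {F G} f => by
      change (preadditiveCoyoneda.obj (op (FK Y))).map f ≫ gamH Y G =
        gamH Y F ≫ HomologicalComplex.homologyMap (cechMap (Y := Y) (resMap' (Over.forget X) f)) 0
      simp only [gamH, Category.assoc, HomologicalComplex.homologyπ_naturality]
      rw [← Category.assoc, ← Category.assoc]
      congr 1
      rw [← cancel_mono ((cechCx Y (res' (Over.forget X) G)).iCycles 0), Category.assoc, Category.assoc,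
        HomologicalComplex.cyclesMap_i, HomologicalComplex.liftCycles_i,
        HomologicalComplex.liftCycles_i_assoc]
      ext φ
      refine (cochainEquiv Y _ 0).injective ?_
      refine (AddEquiv.apply_symm_apply _ _).trans ((gam_comp Y f φ).trans ?_)
      exact ((cochainEquiv_map _ 0 _).trans (congr_arg _ (AddEquiv.apply_symm_apply _ _))).symm)

theorem nonempty_cechH_iso (M : Cᵒᵖ ⥤ AddCommGrpCat.{u}) (q : ℕ) :
    Nonempty (CohCx.cechH M Y q ≅
      AddCommGrpCat.of (CohCx.HK (K Y) ⟨M, Presheaf.isSheaf_bot _⟩ q)) := by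
  haveI : (sheafToPresheaf (⊥ : GrothendieckTopology C) AddCommGrpCat.{u}).IsEquivalence :=
    (sheafBotEquivalence AddCommGrpCat.{u}).isEquivalence_functor
  have hex : ∀ T : ShortComplex (Sheaf (⊥ : GrothendieckTopology C) AddCommGrpCat.{u}),
      T.ShortExact → (T.map (cx Y)).ShortExact := fun T hT =>
    GrothSS.cechFun_shortExact Y _ (hT.map_of_exact (sheafToPresheaf _ _))
  have hvan : ∀ (I : Sheaf (⊥ : GrothendieckTopology C) AddCommGrpCat.{u}), Injective I → ∀ p : ℕ,
      IsZero (((cx Y).obj I).homology (p + 1)) := fun I hI p => by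
    haveI := hI
    haveI : Injective ((sheafToPresheaf (⊥ : GrothendieckTopology C) AddCommGrpCat.{u}).obj I) :=
      Injective.injective_of_adjoint (sheafificationAdjunction _ _) I
    haveI : Injective I.obj :=
      inferInstanceAs (Injective ((sheafToPresheaf (⊥ : GrothendieckTopology C) AddCommGrpCat.{u}).obj I))
    exact CechGen.isZero_cechH Y I.obj p
  obtain ⟨j⟩ := GrothSS.nonempty_rightDerived_iso_homology (cx Y)
    (preadditiveCoyoneda.obj (op (FK Y))) (gamIso Y) hex hvan q ⟨M, Presheaf.isSheaf_bot _⟩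
  exact ⟨j.symm ≪≫ (DerExt.rightDerivedIso _ q).app _⟩

end Groth.Agent.W7CechSieve
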